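import Groth.Agent.Lib.ValCritRes.Basic
import Groth.Agent.Lib.SchPt.Basic
import Mathlib.AlgebraicGeometry.Morphisms.QuasiSeparated
import Mathlib.AlgebraicGeometry.Morphisms.Proper

/-!
Valuative criteria tested on the points of a scheme mapping densely to the source.
-/

universe u

open CategoryTheory CategoryTheory.Limits AlgebraicGeometry IsLocalRing

namespace Groth.Agent.ValCritRes

variable {X Y Z : Scheme.{u}} (h : Z ⟶ Y) (f : Y ⟶ X)

theorem fromSpecResidueField_eq (X : Scheme.{u}) (x : X) :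
    X.fromSpecResidueField x (closedPoint (X.residueField x)) = x :=
  Scheme.fromSpecResidueField_apply x _

/-- A specialization of the image of a field valued point is the closed point of a valuation ring
of that field. -/
theorem exists_valuation {P : Scheme.{u}} {L : Type u} [Field L] (m : Spec (CommRingCat.of L) ⟶ P)
    (t : P) (ht : m (closedPoint L) ⤳ t) :
    ∃ (V : ValuationSubring L) (ψ : Spec (CommRingCat.of V) ⟶ P),
      Spec.map (CommRingCat.ofHom V.subtype) ≫ ψ = m ∧ ψ (closedPoint V) = t := by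
  obtain ⟨a, ha⟩ := exists_stalkHom_of_specializes m t ht
  obtain ⟨V, hV, hloc⟩ := IsLocalRing.exists_factor_valuationRing a.hom
  let a' : P.presheaf.stalk t ⟶ CommRingCat.of V := CommRingCat.ofHom (a.hom.codRestrict _ hV)
  refine ⟨V, Spec.map a' ≫ P.fromSpecStalk t, ?_, ?_⟩
  · rw [← Spec.map_comp_assoc]
    exact ha
  · rw [Scheme.Hom.comp_apply]
    have : Spec.map a' (closedPoint V) = closedPoint (P.presheaf.stalk t) :=
      comap_closedPoint (S := V) (a.hom.codRestrict V.toSubring hV)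
    rw [this]
    exact P.fromSpecStalk_closedPoint

/-- Uniqueness of lifts tested on the residue fields of `Z`. -/
def UniqueLifts : Prop :=
  ∀ (z : Z) (R : ValuationSubring (Z.residueField z)) (φ : Spec (CommRingCat.of R) ⟶ X),
    Spec.map (CommRingCat.ofHom R.subtype) ≫ φ = Z.fromSpecResidueField z ≫ h ≫ f →
    ∀ φ₁ φ₂ : Spec (CommRingCat.of R) ⟶ Y,
      Spec.map (CommRingCat.ofHom R.subtype) ≫ φ₁ = Z.fromSpecResidueField z ≫ h → φ₁ ≫ f = φ →
      Spec.map (CommRingCat.ofHom R.subtype) ≫ φ₂ = Z.fromSpecResidueField z ≫ h → φ₂ ≫ f = φ →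
      φ₁ = φ₂

theorem uniqueLifts_of_isSeparated [IsSeparated f] : UniqueLifts h f := by
  intro z R φ w φ₁ φ₂ a₁ b₁ a₂ b₂
  have := IsSeparated.valuativeCriterion f
    { R := R, K := Z.residueField z, i₁ := Z.fromSpecResidueField z ≫ h, i₂ := φ,
      commSq := ⟨by rw [Category.assoc]; exact w.symm⟩ }
  exact congrArg CommSq.LiftStruct.l (this.elim ⟨φ₁, a₁, b₁⟩ ⟨φ₂, a₂, b₂⟩)

theorem exists_specializes_of_dense [CompactSpace Z] [QuasiSeparatedSpace Y]
    (hd : DenseRange h.base) (y : Y) : ∃ z : Z, h z ⤳ y :=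
  Groth.Agent.SchPt.exists_specializes_of_mem_closure_range h (hd.closure_range ▸ Set.mem_univ y)

theorem isSeparated_of_uniqueLifts [CompactSpace Z] [CompactSpace Y] [QuasiSeparatedSpace Y]
    [QuasiSeparatedSpace X] (hd : DenseRange h.base) (H : UniqueLifts h f) : IsSeparated f := by
  haveI : QuasiSeparated f := inferInstance
  refine ⟨IsClosedImmersion.of_isPreimmersion _ ?_⟩
  refine IsClosedMap.isClosed_range ((isClosedMap_iff_specializingMap _).mpr ?_)
  intro y t hyt
  obtain ⟨z, hz⟩ := exists_specializes_of_dense h hd y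
  obtain ⟨V, ψ, hψ₁, hψ₂⟩ := exists_valuation (L := Z.residueField z) (Z.fromSpecResidueField z ≫ h ≫ pullback.diagonal f) t (by
    rw [Scheme.Hom.comp_apply, Scheme.Hom.comp_apply, fromSpecResidueField_eq]
    exact (hz.map (pullback.diagonal f).continuous).trans hyt)
  have he := H z V (ψ ≫ pullback.fst f f ≫ f) (by rw [reassoc_of% hψ₁]; simp)
    (ψ ≫ pullback.fst f f) (ψ ≫ pullback.snd f f) (by rw [reassoc_of% hψ₁]; simp) (by simp)
    (by rw [reassoc_of% hψ₁]; simp) (by rw [Category.assoc, ← pullback.condition])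
  have hψ : (ψ ≫ pullback.fst f f) ≫ pullback.diagonal f = ψ := by
    apply pullback.hom_ext
    · simp
    · rw [Category.assoc, pullback.diagonal_snd, Category.comp_id, he]
  refine ⟨(ψ ≫ pullback.fst f f) (closedPoint V), ?_, ?_⟩
  · refine (pullback.diagonal f).isEmbedding.isInducing.specializes_iff.mp ?_
    have e : pullback.diagonal f ((ψ ≫ pullback.fst f f) (closedPoint V)) = t := by
      rw [← Scheme.Hom.comp_apply, hψ, hψ₂]
    rw [e]
    exact hyt
  · rw [← Scheme.Hom.comp_apply, hψ, hψ₂]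

theorem exists_extension {F L : Type u} [Field F] [Field L] (e : F →+* L) (R₀ : ValuationSubring F) :
    ∃ W : ValuationSubring L, W.comap e = R₀ := by
  obtain ⟨W, hW, hloc⟩ := IsLocalRing.exists_factor_valuationRing (e.comp R₀.subtype)
  refine ⟨W, le_antisymm (fun x hx => ?_) fun x hx => hW ⟨x, hx⟩⟩
  rcases R₀.mem_or_inv_mem x with hm | hm
  · exact hm
  rcases eq_or_ne x 0 with rfl | hx0
  · exact R₀.zero_mem
  have hu : IsUnit ((e.comp R₀.subtype).codRestrict W.toSubring hW ⟨x⁻¹, hm⟩) :=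
    IsUnit.of_mul_eq_one ⟨e x, hx⟩ (Subtype.ext (by
      change e x⁻¹ * e x = 1
      rw [← map_mul, inv_mul_cancel₀ hx0, map_one]))
  obtain ⟨b, hb⟩ := (hloc.map_nonunit _ hu).exists_right_inv
  have h1 : x⁻¹ * (b : F) = 1 := congrArg (fun q : R₀ => (q : F)) hb
  have : x = b := by
    rw [← inv_inv x]
    exact inv_eq_of_mul_eq_one_right h1
  exact this ▸ b.2

/-- Existence of lifts tested on the residue fields of `Z` implies the valuative criterion. -/
theorem existence_of_lifts [CompactSpace Z] [QuasiSeparatedSpace Y] [IsSeparated f]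
    (hd : DenseRange h.base)
    (H : ∀ (z : Z) (R : ValuationSubring (Z.residueField z)) (φ : Spec (CommRingCat.of R) ⟶ X),
      Spec.map (CommRingCat.ofHom R.subtype) ≫ φ = Z.fromSpecResidueField z ≫ h ≫ f →
      ∃ φ' : Spec (CommRingCat.of R) ⟶ Y,
        Spec.map (CommRingCat.ofHom R.subtype) ≫ φ' = Z.fromSpecResidueField z ≫ h ∧ φ' ≫ f = φ) :
    ValuativeCriterion.Existence f := by
  rintro ⟨R, K, i₁, i₂, ⟨w⟩⟩
  -- the point and the valuation ring of its residue field
  let y := i₁ (closedPoint K)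
  let g : Y.residueField y ⟶ CommRingCat.of K := Scheme.descResidueField (Scheme.stalkClosedPointTo i₁)
  have hg : Spec.map g ≫ Y.fromSpecResidueField y = i₁ :=
    Scheme.descResidueField_stalkClosedPointTo_fromSpecResidueField K Y i₁
  have hinj : Function.Injective (algebraMap R K) := IsFractionRing.injective R K
  let Rs : ValuationSubring K := ValuationSubring.ofSubring (algebraMap R K).range (fun x => by
    rcases ValuationRing.isInteger_or_isInteger R x with ⟨r, hr⟩ | ⟨r, hr⟩
    · exact Or.inl ⟨r, hr⟩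
    · exact Or.inr ⟨r, hr⟩)
  let eR : R ≃+* Rs := RingEquiv.ofBijective (algebraMap R K).rangeRestrict
    ⟨fun a b hab => hinj (congrArg Subtype.val hab), (algebraMap R K).rangeRestrict_surjective⟩
  let R₀ : ValuationSubring (Y.residueField y) := Rs.comap g.hom
  let ρ₁ : R₀ →+* Rs := (g.hom.comp R₀.subtype).codRestrict Rs.toSubring fun x => x.2
  let i₂' : Spec (CommRingCat.of Rs) ⟶ X := Spec.map (CommRingCat.ofHom eR.toRingHom) ≫ i₂
  have hsub : Rs.subtype.comp eR.toRingHom = algebraMap R K := RingHom.ext fun x => rfl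
  have w' : Spec.map (CommRingCat.ofHom Rs.subtype) ≫ i₂' =
      Spec.map g ≫ Y.fromSpecResidueField y ≫ f := by
    rw [reassoc_of% hg, w, ← hsub, CommRingCat.ofHom_comp, Spec.map_comp, Category.assoc]
  obtain ⟨φ₀, ⟨hφ₀a, hφ₀b⟩, -⟩ :=
    existsUnique_descend g.hom Rs ρ₁ (fun _ => rfl) i₂' (Y.fromSpecResidueField y ≫ f) w'
  -- a point of `Z` and a valuation with centre `y`
  obtain ⟨z, hz⟩ := exists_specializes_of_dense h hd y
  obtain ⟨V, ψ, hψ₁, hψ₂⟩ := exists_valuation (L := Z.residueField z) (Z.fromSpecResidueField z ≫ h) y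
    (by rw [Scheme.Hom.comp_apply, fromSpecResidueField_eq]; exact hz)
  obtain ⟨a, hal, ha⟩ := exists_stalkHom ψ y hψ₂
  haveI := hal
  let e : Y.residueField y ⟶ CommRingCat.of (ResidueField V) :=
    CommRingCat.ofHom (IsLocalRing.ResidueField.map a.hom)
  have he : Spec.map (CommRingCat.ofHom (residue V)) ≫ ψ = Spec.map e ≫ Y.fromSpecResidueField y := by
    rw [← ha, Scheme.fromSpecResidueField, ← Spec.map_comp_assoc, ← Spec.map_comp_assoc]
    rfl
  obtain ⟨W, hW⟩ := exists_extension e.hom R₀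
  let ρ₂ : W.comap e.hom →+* W := (e.hom.comp (W.comap e.hom).subtype).codRestrict W.toSubring fun x => x.2
  let j : W.comap e.hom →+* R₀ :=
    (W.comap e.hom).subtype.codRestrict R₀.toSubring fun x => hW.le x.2
  let j' : R₀ →+* W.comap e.hom :=
    R₀.subtype.codRestrict (W.comap e.hom).toSubring fun x => hW.ge x.2
  let φW : Spec (CommRingCat.of W) ⟶ X :=
    Spec.map (CommRingCat.ofHom ρ₂) ≫ Spec.map (CommRingCat.ofHom j') ≫ φ₀
  have hφW : Spec.map (CommRingCat.ofHom W.subtype) ≫ φW =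
      Spec.map e ≫ Y.fromSpecResidueField y ≫ f := by
    rw [← hφ₀b]
    simp only [φW, ← Spec.map_comp_assoc]
    rfl
  -- the composed valuation ring
  let S : Subring V := W.toSubring.comap (residue V)
  let R'' : ValuationSubring (Z.residueField z) := ValuationSubring.ofSubring (S.map V.subtype) (fun x => by
    rcases eq_or_ne x 0 with rfl | hx0
    · exact Or.inl (zero_mem _)
    rcases V.mem_or_inv_mem x with hx | hx
    · by_cases hu : IsUnit (⟨x, hx⟩ : V)
      · rcases W.mem_or_inv_mem (residue V ⟨x, hx⟩) with hm | hm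
        · exact Or.inl ⟨⟨x, hx⟩, hm, rfl⟩
        · obtain ⟨b, hb⟩ := hu.exists_right_inv
          refine Or.inr ⟨b, ?_, eq_inv_of_mul_eq_one_right (congrArg Subtype.val hb)⟩
          change residue V b ∈ W
          rwa [eq_inv_of_mul_eq_one_right (show residue V ⟨x, hx⟩ * residue V b = 1 by
            rw [← map_mul, hb, map_one])]
      · refine Or.inl ⟨⟨x, hx⟩, ?_, rfl⟩
        change residue V _ ∈ W
        rw [(residue_eq_zero_iff _).mpr hu]
        exact W.zero_mem
    · by_cases hu : IsUnit (⟨x⁻¹, hx⟩ : V)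
      · obtain ⟨b, hb⟩ := hu.exists_right_inv
        have hbx : x = (b : Z.residueField z) := by
          rw [← inv_inv x]
          exact inv_eq_of_mul_eq_one_right (congrArg Subtype.val hb)
        rcases W.mem_or_inv_mem (residue V b) with hm | hm
        · exact Or.inl ⟨b, hm, hbx.symm⟩
        · refine Or.inr ⟨⟨x⁻¹, hx⟩, ?_, rfl⟩
          change residue V ⟨x⁻¹, hx⟩ ∈ W
          rwa [eq_inv_of_mul_eq_one_left (show residue V ⟨x⁻¹, hx⟩ * residue V b = 1 by
            rw [← map_mul, hb, map_one])]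
      · refine Or.inr ⟨⟨x⁻¹, hx⟩, ?_, rfl⟩
        change residue V _ ∈ W
        rw [(residue_eq_zero_iff _).mpr hu]
        exact W.zero_mem)
  have hle : R'' ≤ V := fun x hx => by obtain ⟨s, -, rfl⟩ := hx; exact s.2
  let ι : R'' →+* V := R''.subtype.codRestrict V.toSubring fun x => hle x.2
  have hmem : ∀ x : R'', residue V (ι x) ∈ W := fun x => by
    obtain ⟨s, hs, hsx⟩ := x.2
    rwa [show ι x = s from Subtype.ext hsx.symm]
  let σ : R'' →+* W := ((residue V).comp ι).codRestrict W.toSubring hmem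
  have hσs : Function.Surjective σ := fun v => by
    obtain ⟨s, hs⟩ := residue_surjective (R := V) (v : ResidueField V)
    exact ⟨⟨(s : Z.residueField z), s, (show residue V s ∈ W from hs ▸ v.2), rfl⟩, Subtype.ext hs⟩
  obtain ⟨φ'', ⟨hφι, hφσ⟩, -⟩ := existsUnique_glue R'' V hle ι (fun _ => rfl) (ψ ≫ f) W σ hσs
    (fun _ => rfl) φW (by rw [hφW, reassoc_of% he])
  obtain ⟨l, hl₁, hl₂⟩ := H z R'' φ'' (by
    rw [← reassoc_of% hψ₁, ← hφι]
    simp only [← Spec.map_comp_assoc]
    rfl)
  have hlψ : Spec.map (CommRingCat.ofHom ι) ≫ l = ψ := by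
    refine uniqueLifts_of_isSeparated h f z V (ψ ≫ f) (by rw [reassoc_of% hψ₁]) _ _ ?_ ?_ hψ₁ rfl
    · rw [← hl₁, ← Spec.map_comp_assoc]; rfl
    · rw [Category.assoc, hl₂, hφι]
  have hlW : Spec.map (CommRingCat.ofHom W.subtype) ≫ Spec.map (CommRingCat.ofHom σ) ≫ l =
      Spec.map e ≫ Y.fromSpecResidueField y := by
    rw [← he, ← hlψ]
    simp only [← Spec.map_comp_assoc]
    rfl
  obtain ⟨l₀, ⟨hl₀a, hl₀b⟩, -⟩ := existsUnique_descend e.hom W ρ₂ (fun _ => rfl)
    (Spec.map (CommRingCat.ofHom σ) ≫ l) (Y.fromSpecResidueField y) hlW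
  have hl₀f : l₀ ≫ f = Spec.map (CommRingCat.ofHom j') ≫ φ₀ := by
    refine ((existsUnique_descend e.hom W ρ₂ (fun _ => rfl) φW (Y.fromSpecResidueField y ≫ f) hφW).unique
      ⟨?_, ?_⟩ ⟨rfl, ?_⟩)
    · rw [reassoc_of% hl₀a, hl₂, hφσ]
    · rw [reassoc_of% hl₀b]
    · rw [← hφ₀b, ← Spec.map_comp_assoc]
      rfl
  refine ⟨⟨⟨Spec.map (CommRingCat.ofHom eR.symm.toRingHom) ≫ Spec.map (CommRingCat.ofHom ρ₁) ≫
    Spec.map (CommRingCat.ofHom j) ≫ l₀, ?_, ?_⟩⟩⟩
  · refine Eq.trans ?_ hg
    rw [← hl₀b]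
    simp only [← Spec.map_comp_assoc]
    congr 2
    ext x
    exact congrArg Subtype.val (eR.apply_symm_apply _)
  · simp only [Category.assoc, hl₀f]
    rw [← Spec.map_comp_assoc (CommRingCat.ofHom j') (CommRingCat.ofHom j),
      show CommRingCat.ofHom j' ≫ CommRingCat.ofHom j = 𝟙 _ from rfl, Spec.map_id, Category.id_comp, hφ₀a]
    simp only [i₂', ← Spec.map_comp_assoc, ← CommRingCat.ofHom_comp]
    rw [show eR.symm.toRingHom.comp eR.toRingHom = RingHom.id R from RingHom.ext eR.symm_apply_apply,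
      CommRingCat.ofHom_id, Spec.map_id, Category.id_comp]

end Groth.Agent.ValCritRes
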