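import Mathlib.AlgebraicGeometry.ValuativeCriterion
import Mathlib.AlgebraicGeometry.ResidueField
import Mathlib.RingTheory.Valuation.ValuationSubring

/-!
Morphisms from spectra of valuation rings: determination by the closed point and the generic
fibre, descent to smaller fields, gluing along a composition of valuations.
-/

universe u

open CategoryTheory AlgebraicGeometry IsLocalRing

namespace Groth.Agent.ValCritRes

variable {X : Scheme.{u}}

theorem exists_stalkHom {A : CommRingCat.{u}} [IsLocalRing A] (h : Spec A ⟶ X) (x : X)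
    (hx : h (closedPoint A) = x) :
    ∃ a : X.presheaf.stalk x ⟶ A, IsLocalHom a.hom ∧ Spec.map a ≫ X.fromSpecStalk x = h := by
  subst hx
  exact ⟨Scheme.stalkClosedPointTo h, inferInstance, Scheme.Spec_stalkClosedPointTo_fromSpecStalk h⟩

theorem exists_stalkHom_of_specializes {A : CommRingCat.{u}} [IsLocalRing A] (h : Spec A ⟶ X) (x : X)
    (hx : h (closedPoint A) ⤳ x) :
    ∃ a : X.presheaf.stalk x ⟶ A, Spec.map a ≫ X.fromSpecStalk x = h :=
  ⟨X.presheaf.stalkSpecializes hx ≫ Scheme.stalkClosedPointTo h, by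
    rw [Spec.map_comp, Category.assoc, Scheme.SpecMap_stalkSpecializes_fromSpecStalk,
      Scheme.Spec_stalkClosedPointTo_fromSpecStalk]⟩

theorem stalkHom_ext {A : CommRingCat.{u}} {x : X} {a b : X.presheaf.stalk x ⟶ A}
    (h : Spec.map a ≫ X.fromSpecStalk x = Spec.map b ≫ X.fromSpecStalk x) : a = b :=
  Spec.map_injective ((cancel_mono _).mp h)

theorem map_closedPoint {A B : Type u} [CommRing A] [CommRing B] [IsLocalRing A] [IsLocalRing B]
    (ρ : A →+* B) [IsLocalHom ρ] :
    Spec.map (CommRingCat.ofHom ρ) (closedPoint B) = closedPoint A :=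
  comap_closedPoint (S := B) ρ

theorem map_apply_closedPoint {A B : Type u} [CommRing A] [CommRing B] [IsLocalRing A] [IsLocalRing B]
    (ρ : A →+* B) [IsLocalHom ρ] (h : Spec (CommRingCat.of A) ⟶ X) :
    (Spec.map (CommRingCat.ofHom ρ) ≫ h) (closedPoint B) = h (closedPoint A) := by
  rw [Scheme.Hom.comp_apply, map_closedPoint]

/-- Two morphisms from the spectrum of a local subring which agree at the closed point and after
an injective extension of scalars are equal. -/
theorem hom_ext_of_injective {A B : Type u} [CommRing A] [CommRing B] [IsLocalRing A] (j : A →+* B)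
    (hj : Function.Injective j) (h₁ h₂ : Spec (CommRingCat.of A) ⟶ X)
    (hc : h₁ (closedPoint A) = h₂ (closedPoint A))
    (h : Spec.map (CommRingCat.ofHom j) ≫ h₁ = Spec.map (CommRingCat.ofHom j) ≫ h₂) : h₁ = h₂ := by
  obtain ⟨a, -, ha⟩ := exists_stalkHom h₁ _ rfl
  obtain ⟨b, -, hb⟩ := exists_stalkHom h₂ _ hc.symm
  rw [← ha, ← hb, ← Spec.map_comp_assoc, ← Spec.map_comp_assoc] at h
  have := stalkHom_ext h
  suffices e : a = b by rw [← ha, ← hb, e]
  ext s
  exact hj (ConcreteCategory.congr_hom this s)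

theorem isLocalHom_comap {F L : Type u} [Field F] [Field L] (e : F →+* L) (W : ValuationSubring L)
    (ρ : W.comap e →+* W) (hρ : ∀ x, ((ρ x : W) : L) = e x) : IsLocalHom ρ := by
  refine ⟨fun a ha => ?_⟩
  obtain ⟨b, hb⟩ := ha.exists_right_inv
  have h1 : e a * (b : L) = 1 := by
    rw [← hρ]; exact congrArg (fun w : W => (w : L)) hb
  have hmem : e (a : F)⁻¹ ∈ W := by
    rw [map_inv₀, inv_eq_of_mul_eq_one_right h1]
    exact b.2
  refine IsUnit.of_mul_eq_one ⟨(a : F)⁻¹, hmem⟩ (Subtype.ext ?_)
  refine mul_inv_cancel₀ fun h0 => ?_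
  rw [h0, map_zero, zero_mul] at h1
  exact zero_ne_one h1

/-- A valuative square over a field extension descends to the smaller field. -/
theorem existsUnique_descend {F L : Type u} [Field F] [Field L] (e : F →+* L) (W : ValuationSubring L)
    (ρ : W.comap e →+* W) (hρ : ∀ x, ((ρ x : W) : L) = e x)
    (φ : Spec (CommRingCat.of W) ⟶ X) (m : Spec (CommRingCat.of F) ⟶ X)
    (w : Spec.map (CommRingCat.ofHom W.subtype) ≫ φ = Spec.map (CommRingCat.ofHom e) ≫ m) :
    ∃! φ' : Spec (CommRingCat.of (W.comap e)) ⟶ X,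
      Spec.map (CommRingCat.ofHom ρ) ≫ φ' = φ ∧
      Spec.map (CommRingCat.ofHom (W.comap e).subtype) ≫ φ' = m := by
  haveI := isLocalHom_comap e W ρ hρ
  obtain ⟨α, hαl, hα⟩ := exists_stalkHom φ _ rfl
  have hgen : m (closedPoint F) ⤳ φ (closedPoint W) := by
    have e1 : m (closedPoint F) = φ (Spec.map (CommRingCat.ofHom W.subtype) (closedPoint L)) := by
      rw [← Scheme.Hom.comp_apply, w, map_apply_closedPoint]
    rw [e1]
    exact (specializes_closedPoint _).map φ.continuous
  obtain ⟨β, hβ⟩ := exists_stalkHom_of_specializes m (φ (closedPoint W)) hgen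
  have key : α ≫ CommRingCat.ofHom W.subtype = β ≫ CommRingCat.ofHom e := by
    apply stalkHom_ext
    rw [Spec.map_comp, Spec.map_comp, Category.assoc, Category.assoc, hα, hβ]
    exact w
  have hβmem : ∀ s, β.hom s ∈ W.comap e := fun s => by
    rw [ValuationSubring.mem_comap, show e (β.hom s) = ((α.hom s : W) : L) from
      (ConcreteCategory.congr_hom key s).symm]
    exact (α.hom s).2
  let β' : X.presheaf.stalk (φ (closedPoint W)) ⟶ CommRingCat.of (W.comap e) :=
    CommRingCat.ofHom (β.hom.codRestrict (W.comap e).toSubring hβmem)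
  have hβ'ρ : β' ≫ CommRingCat.ofHom ρ = α := by
    ext s
    exact (hρ _).trans (ConcreteCategory.congr_hom key s).symm
  refine ⟨Spec.map β' ≫ X.fromSpecStalk _, ⟨?_, ?_⟩, ?_⟩
  · rw [← Spec.map_comp_assoc, hβ'ρ, hα]
  · rw [← Spec.map_comp_assoc]
    exact hβ
  · rintro φ' ⟨h1, h2⟩
    refine hom_ext_of_injective (W.comap e).subtype Subtype.val_injective _ _ ?_ ?_
    · have hA : φ' (closedPoint (W.comap e)) = φ (closedPoint W) := by
        rw [← map_apply_closedPoint ρ φ', h1]
      have hB : (Spec.map β' ≫ X.fromSpecStalk (φ (closedPoint W))) (closedPoint (W.comap e)) =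
          φ (closedPoint W) := by
        rw [← map_apply_closedPoint ρ (Spec.map β' ≫ X.fromSpecStalk (φ (closedPoint W))),
          ← Spec.map_comp_assoc, hβ'ρ, hα]
      exact hA.trans hB.symm
    · rw [h2, ← Spec.map_comp_assoc]
      exact hβ.symm

/-- Gluing of morphisms along a composition of valuations. -/
theorem existsUnique_glue {K : Type u} [Field K] (R R' : ValuationSubring K) (hRR' : R ≤ R')
    (ι : R →+* R') (hι : ∀ x : R, ((ι x : R') : K) = (x : K))
    (g : Spec (CommRingCat.of R') ⟶ X)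
    (Rt : ValuationSubring (ResidueField R')) (σ : R →+* Rt) (hσs : Function.Surjective σ)
    (hσ : ∀ x : R, ((σ x : Rt) : ResidueField R') = residue R' (ι x))
    (ht : Spec (CommRingCat.of Rt) ⟶ X)
    (hht : Spec.map (CommRingCat.ofHom Rt.subtype) ≫ ht = Spec.map (CommRingCat.ofHom (residue R')) ≫ g) :
    ∃! h : Spec (CommRingCat.of R) ⟶ X,
      Spec.map (CommRingCat.ofHom ι) ≫ h = g ∧ Spec.map (CommRingCat.ofHom σ) ≫ h = ht := by
  haveI : IsLocalHom σ := .of_surjective σ hσs
  obtain ⟨a, hal, ha⟩ := exists_stalkHom ht _ rfl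
  have hgen : g (closedPoint R') ⤳ ht (closedPoint Rt) := by
    have e1 : g (closedPoint R') =
        ht (Spec.map (CommRingCat.ofHom Rt.subtype) (closedPoint (ResidueField R'))) := by
      rw [← Scheme.Hom.comp_apply, hht]
      haveI : IsLocalHom (residue R') := .of_surjective _ residue_surjective
      rw [map_apply_closedPoint]
    rw [e1]
    exact (specializes_closedPoint _).map ht.continuous
  obtain ⟨b, hb⟩ := exists_stalkHom_of_specializes g (ht (closedPoint Rt)) hgen
  have key : a ≫ CommRingCat.ofHom Rt.subtype = b ≫ CommRingCat.ofHom (residue R') := by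
    apply stalkHom_ext
    rw [Spec.map_comp, Spec.map_comp, Category.assoc, Category.assoc, ha, hb]
    exact hht
  have hbmem : ∀ s, ((b.hom s : R') : K) ∈ R := fun s => by
    obtain ⟨r, hr⟩ := hσs (a.hom s)
    have h0 : residue R' (b.hom s - ι r) = 0 := by
      rw [map_sub, ← hσ r, hr, sub_eq_zero]
      exact (ConcreteCategory.congr_hom key s).symm
    have hm : b.hom s - ι r ∈ maximalIdeal R' := residue_eq_zero_iff _ |>.mp h0
    have hd : ((b.hom s - ι r : R') : K) ∈ R := by
      rcases eq_or_ne ((b.hom s - ι r : R') : K) 0 with h | h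
      · rw [h]; exact R.zero_mem
      refine (R.mem_or_inv_mem _).resolve_right fun hinv => hm ?_
      exact IsUnit.of_mul_eq_one ⟨_, hRR' hinv⟩ (Subtype.ext (mul_inv_cancel₀ h))
    have := R.add_mem _ _ hd r.2
    simpa [hι] using this
  let c : X.presheaf.stalk (ht (closedPoint Rt)) ⟶ CommRingCat.of R :=
    CommRingCat.ofHom ((R'.subtype.comp b.hom).codRestrict R.toSubring hbmem)
  have hcι : c ≫ CommRingCat.ofHom ι = b := by
    ext s
    exact hι _
  have hcσ : c ≫ CommRingCat.ofHom σ = a := by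
    ext s
    refine (hσ _).trans ?_
    exact (congrArg (residue R') (ConcreteCategory.congr_hom hcι s)).trans
      (ConcreteCategory.congr_hom key s).symm
  refine ⟨Spec.map c ≫ X.fromSpecStalk _, ⟨?_, ?_⟩, ?_⟩
  · rw [← Spec.map_comp_assoc, hcι, hb]
  · rw [← Spec.map_comp_assoc, hcσ, ha]
  · rintro h ⟨h1, h2⟩
    have hι' : R'.subtype.comp ι = R.subtype := RingHom.ext hι
    refine hom_ext_of_injective R.subtype Subtype.val_injective _ _ ?_ ?_
    · rw [← map_apply_closedPoint σ, h2, ← map_apply_closedPoint σ, ← Spec.map_comp_assoc, hcσ, ha]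
    · have eR : ∀ k : Spec (CommRingCat.of R) ⟶ X, Spec.map (CommRingCat.ofHom R.subtype) ≫ k =
          Spec.map (CommRingCat.ofHom R'.subtype) ≫ Spec.map (CommRingCat.ofHom ι) ≫ k := fun k => by
        rw [← hι', CommRingCat.ofHom_comp, Spec.map_comp, Category.assoc]
      refine (eR h).trans (Eq.trans ?_ (eR _).symm)
      rw [h1, ← Spec.map_comp_assoc (f := c), hcι, hb]

end Groth.Agent.ValCritRes
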